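import Cfsg.Agent.Thompson.FixedPointFree
import Cfsg.Agent.PGroups.Basic
import Mathlib.GroupTheory.SemidirectProduct

/-!
A finite group with a splitting automorphism of prime order is nilpotent.
-/

set_option linter.style.haveILetI false
set_option linter.unusedSectionVars false

namespace Cfsg.Lib.Splitting

open Subgroup Function
open scoped Pointwise
open scoped IsMulCommutative

universe u

theorem mem_normalizer_of_conj {G : Type u} [Group G] [Finite G] {N : Subgroup G} {g : G}
    (h : ∀ x ∈ N, g * x * g⁻¹ ∈ N) : g ∈ normalizer (N : Set G) :=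
  Cfsg.Lib.Coprime.mem_normalizer_of_conj_mem h fun x hx => by
    have key : ∀ n : ℕ, g ^ n * x * (g ^ n)⁻¹ ∈ N := fun n => by
      induction n with
      | zero => simpa using hx
      | succ n ih =>
        have := h _ ih
        rwa [show g ^ (n + 1) * x * (g ^ (n + 1))⁻¹ = g * (g ^ n * x * (g ^ n)⁻¹) * g⁻¹ by group]
    have hg : g ^ (orderOf g - 1) = g⁻¹ := eq_inv_of_mul_eq_one_left (by
      rw [← pow_succ, Nat.sub_add_cancel (orderOf_pos g), pow_orderOf_eq_one])
    have := key (orderOf g - 1)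
    rwa [hg, inv_inv] at this

theorem hasNormalPComplement_of_nilpotent {G : Type u} [Group G] [Finite G] [Group.IsNilpotent G]
    (p : ℕ) [Fact p.Prime] : Cfsg.HasNormalPComplement p G := by
  refine Cfsg.Lib.Transfer.hasNormalPComplement_of_frobenius fun Q hQ g _ hg => ?_
  intro x hx
  obtain ⟨k, hk⟩ := IsPGroup.iff_orderOf.mp hQ ⟨x, hx⟩
  rw [Subgroup.orderOf_mk] at hk
  have hle : zpowers g ≤ centralizer ({x} : Set G) := by
    refine Cfsg.Lib.Coprime.le_of_forall_sylow fun q hq => ?_
    haveI := Fact.mk hq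
    obtain ⟨S⟩ : Nonempty (Sylow q (zpowers g)) := inferInstance
    refine ⟨S, ?_⟩
    rintro _ ⟨s, hs, rfl⟩
    obtain ⟨j, hj⟩ := IsPGroup.iff_orderOf.mp S.2 ⟨s, hs⟩
    rw [Subgroup.orderOf_mk, ← Subgroup.orderOf_coe] at hj
    rw [mem_centralizer_singleton_iff]
    by_cases hqp : q = p
    · subst hqp
      have hd : orderOf (s : G) ∣ orderOf g := by
        rw [← Nat.card_zpowers g, Subgroup.orderOf_coe]; exact orderOf_dvd_natCard s
      have h1 : orderOf (s : G) = 1 :=
        Nat.eq_one_of_dvd_coprimes (hg.pow_right j) hd hj.dvd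
      rw [Subgroup.coe_subtype, orderOf_eq_one_iff.mp h1]
      simp
    · exact (Cfsg.Lib.SolvStruct.commute_of_coprime_of_nilpotent hqp ⟨j, hj⟩ ⟨k, hk⟩).eq
  exact (mem_centralizer_singleton_iff.mp (hle (mem_zpowers g))).symm

/-- `a` induces a splitting automorphism of period `p` on `G`. -/
def IsSplit {X : Type u} [Group X] (p : ℕ) (G : Subgroup X) (a : X) : Prop :=
  ∀ x ∈ G, (x * a) ^ p = 1

section

variable {X : Type u} [Group X] {G : Subgroup X} {a : X} {p : ℕ}

theorem IsSplit.pow_eq (h : IsSplit p G a) : a ^ p = 1 := by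
  simpa using h 1 (one_mem G)

theorem IsSplit.pow_eq_one_of_commute (h : IsSplit p G a) {c : X} (hc : c ∈ G) (hca : Commute c a) :
    c ^ p = 1 := by
  simpa [hca.mul_pow, h.pow_eq] using h c hc

theorem IsSplit.mul_left (h : IsSplit p G a) {g : X} (hg : g ∈ G) : IsSplit p G (g * a) :=
  fun x hx => by rw [← mul_assoc]; exact h _ (mul_mem hx hg)

/-- the product of the conjugates of `v` by `k * a ^ i * k⁻¹`, `i < n`. -/
theorem prod_conj_eq {V : Subgroup X} [IsMulCommutative V]
    (b : ↥(normalizer (V : Set X))) (v : V) (n : ℕ) :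
    ((((Finset.range n).prod fun i => V.normalizerMonoidHom (b ^ i) v : V)) : X) * (b : X) ^ n
      = ((v : X) * b) ^ n := by
  induction n with
  | zero => simp
  | succ n ih =>
    rw [Finset.prod_range_succ, Subgroup.coe_mul, pow_succ ((v : X) * b), ← ih]
    have h1 : ((V.normalizerMonoidHom (b ^ n) v : V) : X) = (b : X) ^ n * v * ((b : X) ^ n)⁻¹ := by
      rw [← Subgroup.coe_pow]; rfl
    rw [h1]
    group

/-- an abelian normal `p`-subgroup is centralised by the invariant `p'`-subgroups -/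
theorem le_centralizer_of_split [Finite X] [hp : Fact p.Prime] (h : IsSplit p G a) {V Q : Subgroup X}
    [IsMulCommutative V] (hVp : IsPGroup p V) (hVG : V ≤ G) (hGV : G ≤ normalizer (V : Set X))
    (haV : a ∈ normalizer (V : Set X)) (hQG : Q ≤ G) (haQ : a ∈ normalizer (Q : Set X))
    (hQ : (Nat.card Q).Coprime p) : Q ≤ centralizer (V : Set X) := by
  classical
  haveI := Fintype.ofFinite Q
  set ρ := V.normalizerMonoidHom
  set b : ↥(normalizer (V : Set X)) := ⟨a, haV⟩
  let ι : Q →* ↥(normalizer (V : Set X)) := Subgroup.inclusion (hQG.trans hGV)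
  let T : V → V := fun u => ∏ y : Q, ρ (ι y) u
  have hTfix : ∀ (y₀ : Q) (u : V), ρ (ι y₀) (T u) = T u := fun y₀ u => by
    simp only [T, map_prod]
    refine Fintype.prod_equiv (Equiv.mulLeft y₀) _ _ fun y => ?_
    simp [map_mul, MulAut.mul_apply]
  have hnorm : ∀ (k : Q) (v : V), ((Finset.range p).prod fun i => ρ (ι k * b ^ i * (ι k)⁻¹) v) = 1 := by
    intro k v
    have h0 : (Finset.range p).prod (fun i => ρ (b ^ i) (ρ (ι k)⁻¹ v)) = 1 := by
      refine Subtype.ext ?_
      have h1 := prod_conj_eq b (ρ (ι k)⁻¹ v) p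
      rw [h.pow_eq, mul_one, h _ (hVG (SetLike.coe_mem _))] at h1
      exact h1
    have h2 := congrArg (ρ (ι k)) h0
    rw [map_prod, map_one] at h2
    simpa [map_mul, MulAut.mul_apply] using h2
  have hswap : ∀ i ∈ Finset.range p, i ≠ 0 → ∀ v : V,
      (∏ k : Q, ρ (ι k * b ^ i * (ι k)⁻¹) v) = T (ρ (b ^ i) v) := by
    intro i hi hi0 v
    have haQi : a ^ i ∈ normalizer (Q : Set X) := pow_mem haQ i
    let σ : Q → Q := fun k => ⟨(k : X) * (a ^ i * (k : X)⁻¹ * (a ^ i)⁻¹),
      mul_mem k.2 ((mem_normalizer_iff.mp haQi _).mp (inv_mem k.2))⟩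
    have hinj : Function.Injective σ := by
      intro k₁ k₂ he
      have he' : (k₁ : X) * (a ^ i * (k₁ : X)⁻¹ * (a ^ i)⁻¹) =
        (k₂ : X) * (a ^ i * (k₂ : X)⁻¹ * (a ^ i)⁻¹) := congrArg Subtype.val he
      set c := (k₂ : X)⁻¹ * k₁ with hc
      have hcc : Commute c (a ^ i) := by
        show c * a ^ i = a ^ i * c
        calc c * a ^ i = (k₂ : X)⁻¹ * ((k₁ : X) * (a ^ i * (k₁ : X)⁻¹ * (a ^ i)⁻¹)) * (a ^ i * k₁) := by
              rw [hc]; group
          _ = a ^ i * c := by rw [he', hc]; group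
      have hca : Commute c a := by
        obtain ⟨m, hm⟩ := Nat.exists_mul_mod_eq_one_of_coprime
          ((Nat.Coprime.symm (hp.out.coprime_iff_not_dvd.mpr fun hd =>
            (Nat.le_of_dvd (Nat.pos_of_ne_zero hi0) hd).not_gt (Finset.mem_range.mp hi)))) hp.out.one_lt
        have := hcc.pow_right m
        rwa [← pow_mul, ← Nat.mod_add_div (i * m) p, hm.2, pow_add, pow_mul a p, h.pow_eq, one_pow,
          mul_one, pow_one] at this
      have hcQ : c ∈ Q := mul_mem (inv_mem k₂.2) k₁.2
      have h1 : orderOf c = 1 := Nat.eq_one_of_dvd_coprimes hQ (Subgroup.orderOf_dvd_natCard Q hcQ)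
        (orderOf_dvd_of_pow_eq_one (h.pow_eq_one_of_commute (hQG hcQ) hca))
      refine Subtype.ext ?_
      rw [orderOf_eq_one_iff, hc, inv_mul_eq_one] at h1
      exact h1.symm
    refine Fintype.prod_bijective σ (Finite.injective_iff_bijective.mp hinj) _ _ fun k => ?_
    have he : ι k * b ^ i * (ι k)⁻¹ = ι (σ k) * b ^ i := by
      refine Subtype.ext ?_
      show (k : X) * (b ^ i : _).1 * (k : X)⁻¹ = (k : X) * (a ^ i * (k : X)⁻¹ * (a ^ i)⁻¹) * (b ^ i : _).1
      rw [Subgroup.coe_pow]
      show (k : X) * a ^ i * (k : X)⁻¹ = (k : X) * (a ^ i * (k : X)⁻¹ * (a ^ i)⁻¹) * a ^ i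
      group
    rw [he, map_mul, MulAut.mul_apply]
  intro y hy
  refine mem_centralizer_iff.mpr fun v hv => ?_
  set v' : V := ⟨v, hv⟩
  have hfix : ρ (ι ⟨y, hy⟩) (v' ^ Nat.card Q) = v' ^ Nat.card Q := by
    have h1 : (1 : V) = v' ^ Nat.card Q * ∏ i ∈ (Finset.range p).erase 0, T (ρ (b ^ i) v') := by
      calc (1 : V) = ∏ k : Q, (Finset.range p).prod fun i => ρ (ι k * b ^ i * (ι k)⁻¹) v' := by
            rw [Finset.prod_eq_one fun k _ => hnorm k v']
        _ = (Finset.range p).prod fun i => ∏ k : Q, ρ (ι k * b ^ i * (ι k)⁻¹) v' := Finset.prod_comm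
        _ = _ := by
          rw [← Finset.mul_prod_erase _ _ (Finset.mem_range.mpr hp.out.pos)]
          congr 1
          · simp [Nat.card_eq_fintype_card, MulAut.one_apply]
          · exact Finset.prod_congr rfl fun i hi =>
              hswap i (Finset.mem_of_mem_erase hi) (Finset.ne_of_mem_erase hi) v'
    rw [eq_inv_of_mul_eq_one_left h1.symm, map_inv, map_prod]
    simp [hTfix]
  have hco : (orderOf v').Coprime (Nat.card Q) := by
    obtain ⟨k, hk⟩ := IsPGroup.iff_orderOf.mp hVp v'
    rw [hk]; exact (hQ.pow_right k).symm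
  obtain ⟨m, hm⟩ := exists_pow_eq_self_of_coprime hco.symm
  have hfix' : ρ (ι ⟨y, hy⟩) v' = v' := by rw [← hm, map_pow, hfix]
  have h2 : y * v * y⁻¹ = v := congrArg Subtype.val hfix'
  calc v * y = (y * v * y⁻¹) * y := by rw [h2]
    _ = y * v := by group

end

theorem coe_pow_mulAut {G : Type u} [Group G] (f : MulAut G) (n : ℕ) : ⇑(f ^ n) = (⇑f)^[n] := by
  induction n with
  | zero => rfl
  | succ n ih => rw [pow_succ, MulAut.coe_mul, ih, Function.iterate_succ]

theorem isNilpotent_of_split_two {X : Type u} [Group X] {G : Subgroup X} {a : X}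
    (h : IsSplit 2 G a) : Group.IsNilpotent G := by
  have hinv : ∀ x ∈ G, a * x * a⁻¹ = x⁻¹ := fun x hx => by
    have h1 := h x hx
    have h2 := h.pow_eq
    rw [sq] at h1 h2
    rw [inv_eq_of_mul_eq_one_right h2, eq_inv_iff_mul_eq_one]
    have : a * x * a * x = x⁻¹ * (x * a * (x * a)) * x := by group
    rw [this, h1]; group
  have hcomm : ∀ x y : G, x * y = y * x := fun x y => by
    refine Subtype.ext ?_
    have h1 := hinv _ (mul_mem x.2 y.2)
    have h2 : a * ((x : X) * y) * a⁻¹ = (a * x * a⁻¹) * (a * y * a⁻¹) := by group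
    rw [h2, hinv _ x.2, hinv _ y.2, ← mul_inv_rev, inv_inj] at h1
    simpa using h1.symm
  let : CommGroup G := { (inferInstance : Group G) with mul_comm := hcomm }
  infer_instance

variable {p : ℕ} [hp : Fact p.Prime]

theorem isNilpotent_of_split_aux (hp2 : p ≠ 2) (n : ℕ) : ∀ (X : Type u) [Group X] [Finite X]
    (G : Subgroup X) [G.Normal] (a : X), Nat.card G = n → IsSplit p G a → Group.IsNilpotent G := by
  induction n using Nat.strong_induction_on with
  | _ n ih =>
  intro X _ _ G _ a₀ hn h₀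
  by_cases hpg : IsPGroup p G
  · exact hpg.isNilpotent
  -- central quotient
  have ihquot : ∀ a : X, IsSplit p G a → ∀ W : Subgroup X, W ≤ G → W ≠ ⊥ →
      G ≤ centralizer (W : Set X) → a ∈ normalizer (W : Set X) → Group.IsNilpotent G := by
    intro a h W hWG hW hc haW
    set Y := normalizer (W : Set X)
    have hGY : G ≤ Y := hc.trans (centralizer_le_normalizer (W : Set X))
    let π := QuotientGroup.mk' (W.subgroupOf Y)
    haveI : ((G.subgroupOf Y).map π).Normal := Subgroup.Normal.map inferInstance π (QuotientGroup.mk'_surjective _)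
    haveI : Group.IsNilpotent ↥((G.subgroupOf Y).map π) := by
      refine ih _ ?_ _ ((G.subgroupOf Y).map π) (π ⟨a, haW⟩) rfl ?_
      · have hk : (G.subgroupOf Y).relIndex π.ker = 1 := by
          rw [relIndex_eq_one, QuotientGroup.ker_mk']; exact fun x hx => hWG hx
        have h1 := relIndex_mul_relIndex ⊥ π.ker (G.subgroupOf Y) bot_le
          (by rw [QuotientGroup.ker_mk']; exact fun x hx => hWG hx)
        rw [relIndex_bot_left, relIndex_bot_left, relIndex_ker, QuotientGroup.ker_mk',
          Nat.card_congr (subgroupOfEquivOfLe hGY).toEquiv,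
          Nat.card_congr (subgroupOfEquivOfLe (le_normalizer : W ≤ Y)).toEquiv] at h1
        rw [← hn, ← h1]
        exact lt_mul_of_one_lt_left Nat.card_pos ((one_lt_card_iff_ne_bot W).mpr hW)
      · rintro _ ⟨x, hx, rfl⟩
        rw [← map_mul, ← map_pow, show (x * (⟨a, haW⟩ : Y)) ^ p = 1 from Subtype.ext (h _ hx), map_one]
    haveI : Group.IsNilpotent ↥(G.subgroupOf Y) := by
      refine Subgroup.isNilpotent_of_ker_le_center (π.subgroupMap (G.subgroupOf Y)) ?_
      intro x hx
      rw [MonoidHom.mem_ker] at hx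
      have hxW : ((x : Y) : X) ∈ W :=
        (QuotientGroup.eq_one_iff (x : Y)).mp (congrArg Subtype.val hx)
      refine mem_center_iff.mpr fun y => Subtype.ext (Subtype.ext ?_)
      exact ((mem_centralizer_iff.mp (hc y.2)) _ hxW).symm
    exact Group.nilpotent_of_mulEquiv (subgroupOfEquivOfLe hGY)
  -- invariant subgroups
  have ihsub : ∀ a : X, IsSplit p G a → ∀ M : Subgroup G, M ≠ ⊤ →
      M.map (MulAut.conjNormal a : MulAut G).toMonoidHom = M → Group.IsNilpotent M := by
    intro a h M hM hMi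
    set M' := M.map G.subtype
    have haM : a ∈ normalizer (M' : Set X) := by
      have hle : ∀ x : G, x ∈ M → (MulAut.conjNormal a x) ∈ M := fun x hx => by
        rw [← hMi]; exact ⟨x, hx, rfl⟩
      refine mem_normalizer_iff.mpr fun x => ⟨?_, fun hx => ?_⟩
      · rintro ⟨y, hy, rfl⟩; exact ⟨_, hle y hy, rfl⟩
      · obtain ⟨y, hy, he⟩ := hx
        obtain ⟨z, hz, rfl⟩ := hMi.ge hy
        have : (z : X) = x := mul_left_cancel (mul_right_cancel (show a * (z : X) * a⁻¹ = a * x * a⁻¹ from he))
        exact ⟨z, hz, this⟩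
    set Y := normalizer (M' : Set X)
    have hMY : M' ≤ Y := le_normalizer
    haveI : Group.IsNilpotent ↥(M'.subgroupOf Y) := by
      refine ih _ ?_ _ (M'.subgroupOf Y) ⟨a, haM⟩ rfl fun x hx => Subtype.ext (h _ (map_subtype_le M hx))
      rw [Nat.card_congr (subgroupOfEquivOfLe hMY).toEquiv,
        Nat.card_congr (M.equivMapOfInjective _ G.subtype_injective).toEquiv.symm, ← hn]
      exact lt_of_le_of_ne (card_le_card_group M) fun e => hM (M.eq_top_of_card_eq e)
    haveI : Group.IsNilpotent M' := Group.nilpotent_of_mulEquiv (subgroupOfEquivOfLe hMY)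
    exact Group.nilpotent_of_mulEquiv (M.equivMapOfInjective _ G.subtype_injective).symm
  by_cases hpd : p ∣ Nat.card G
  swap
  · set φ : MulAut G := MulAut.conjNormal a₀
    refine Cfsg.Lib.Thompson.isNilpotent_of_fpf φ.toMonoidHom (fun x hx => ?_) hp.out ?_
    · have hc : a₀ * x * a₀⁻¹ = x := congrArg Subtype.val hx
      have hx' : x ^ p = 1 := Subtype.ext (h₀.pow_eq_one_of_commute x.2 (mul_inv_eq_iff_eq_mul.mp hc).symm)
      exact orderOf_eq_one_iff.mp (Nat.eq_one_of_dvd_coprimes
        (hp.out.coprime_iff_not_dvd.mpr hpd) (orderOf_dvd_of_pow_eq_one hx') (orderOf_dvd_natCard x))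
    · have h1 : φ ^ p = 1 := by rw [← map_pow, h₀.pow_eq, map_one]
      show (⇑φ)^[p] = _root_.id
      rw [← coe_pow_mulAut, h1]; rfl
  obtain ⟨P⟩ : Nonempty (Sylow p G) := inferInstance
  set P' := (P : Subgroup G).map G.subtype with hP'
  -- Frattini: elements of the coset normalising a Sylow subgroup
  have hfrat : ∀ {q : ℕ} [Fact q.Prime] (Q : Sylow q G) (a : X), IsSplit p G a →
      ∃ g ∈ G, IsSplit p G (g * a) ∧ g * a ∈ normalizer (((Q : Subgroup G).map G.subtype : Subgroup X) : Set X) := by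
    intro q _ Q a h
    have ha : a ∈ normalizer (((Q : Subgroup G).map G.subtype : Subgroup X) : Set X) ⊔ G :=
      (Sylow.normalizer_sup_eq_top Q) ▸ mem_top a
    rw [← SetLike.mem_coe, mul_normal] at ha
    obtain ⟨m, hm, g, hg, rfl⟩ := ha
    have hg' : m * g⁻¹ * m⁻¹ ∈ G := (inferInstance : G.Normal).conj_mem _ (inv_mem hg) m
    refine ⟨_, hg', h.mul_left hg', ?_⟩
    have e : m * g⁻¹ * m⁻¹ * (m * g) = m := by group
    show m * g⁻¹ * m⁻¹ * (m * g) ∈ _
    rw [e]; exact hm
  obtain ⟨g₀, -, h, haP⟩ := hfrat P a₀ h₀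
  set a := g₀ * a₀
  -- an invariant normal `p`-subgroup finishes
  have hop : ∀ U : Subgroup X, U ≤ P' → U ≠ ⊥ → G ≤ normalizer (U : Set X) →
      a ∈ normalizer (U : Set X) → Group.IsNilpotent G := by
    intro U hUP hU hGU haU
    have hPp : IsPGroup p P' := P.2.map _
    have hUG : U ≤ G := hUP.trans (map_subtype_le _)
    set V := U ⊓ centralizer (U : Set X)
    haveI : IsMulCommutative V := ⟨⟨fun x y => Subtype.ext (mem_centralizer_iff.mp y.2.2 x x.2.1)⟩⟩
    have hnV : ∀ g ∈ normalizer (U : Set X), g ∈ normalizer (V : Set X) := fun g hg => by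
      have hCn : normalizer (U : Set X) ≤ normalizer ((centralizer (U : Set X) : Subgroup X) : Set X) :=
        fun g hg => mem_normalizer_iff.mpr fun x => by
          simp only [mem_centralizer_iff]
          constructor
          · intro hx u hu
            have := hx (g⁻¹ * u * g) ((mem_normalizer_iff''.mp hg u).mp hu)
            calc u * (g * x * g⁻¹) = g * (g⁻¹ * u * g * x) * g⁻¹ := by group
              _ = g * (x * (g⁻¹ * u * g)) * g⁻¹ := by rw [this]
              _ = g * x * g⁻¹ * u := by group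
          · intro hx u hu
            have := hx (g * u * g⁻¹) ((mem_normalizer_iff.mp hg u).mp hu)
            calc u * x = g⁻¹ * (g * u * g⁻¹ * (g * x * g⁻¹)) * g := by group
              _ = g⁻¹ * (g * x * g⁻¹ * (g * u * g⁻¹)) * g := by rw [this]
              _ = x * u := by group
      refine mem_normalizer_iff.mpr fun x => ?_
      simp only [V, mem_inf]
      exact and_congr (mem_normalizer_iff.mp hg x) (mem_normalizer_iff.mp (hCn hg) x)
    have hVne : V ≠ ⊥ := Cfsg.Lib.Thompson.center_ne_bot (hPp.to_le hUP) hU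
    have hVP : V ≤ P' := inf_le_left.trans hUP
    haveI : (V.subgroupOf P').Normal :=
      normal_subgroupOf_of_le_normalizer fun x hx => hnV x (hGU (map_subtype_le _ hx))
    obtain ⟨z, hzV, hzc, hzo⟩ := Cfsg.Lib.PGroups.exists_mem_center_of_normal_ne_bot hPp
      (N := V.subgroupOf P') fun e => hVne (by rwa [subgroupOf_eq_bot, disjoint_iff, inf_eq_left.mpr hVP] at e)
    set W := V ⊓ centralizer (P' : Set X)
    have hWne : W ≠ ⊥ := fun e => by
      have hz : (z : X) ∈ W := ⟨hzV, mem_centralizer_iff.mpr fun y hy =>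
        congrArg Subtype.val (mem_center_iff.mp hzc ⟨y, hy⟩)⟩
      rw [e, mem_bot] at hz
      exact hp.out.one_lt.ne (by rw [← hzo, show z = 1 from Subtype.ext hz, orderOf_one])
    refine ihquot a h W (inf_le_left.trans (hVP.trans (map_subtype_le _))) hWne ?_ ?_
    · refine Cfsg.Lib.Coprime.le_of_forall_sylow fun q hq => ?_
      haveI := Fact.mk hq
      by_cases hqp : q = p
      · subst hqp
        exact ⟨P, fun x hx => mem_centralizer_iff.mpr fun w hw =>
          ((mem_centralizer_iff.mp hw.2) x hx).symm⟩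
      · obtain ⟨Q⟩ : Nonempty (Sylow q G) := inferInstance
        refine ⟨Q, ?_⟩
        obtain ⟨g, hg, h', hQn⟩ := hfrat Q a h
        refine le_trans ?_ (centralizer_le (inf_le_left : W ≤ V))
        refine le_centralizer_of_split h' (hPp.to_le hVP) (hVP.trans (map_subtype_le _))
          (fun x hx => hnV x (hGU hx)) (mul_mem (hnV g (hGU hg)) (hnV a haU)) (map_subtype_le _) hQn ?_
        obtain ⟨k, hk⟩ := IsPGroup.iff_card.mp (Q.2.map G.subtype)
        rw [hk]
        exact ((Nat.coprime_primes hq hp.out).mpr hqp).pow_left k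
    · refine mem_normalizer_iff.mpr fun x => ?_
      simp only [W, mem_inf]
      refine and_congr (mem_normalizer_iff.mp (hnV a haU) x) ?_
      simp only [mem_centralizer_iff]
      constructor
      · intro hx u hu
        have := hx (a⁻¹ * u * a) ((mem_normalizer_iff''.mp haP u).mp hu)
        calc u * (a * x * a⁻¹) = a * (a⁻¹ * u * a * x) * a⁻¹ := by group
          _ = a * (x * (a⁻¹ * u * a)) * a⁻¹ := by rw [this]
          _ = a * x * a⁻¹ * u := by group
      · intro hx u hu
        have := hx (a * u * a⁻¹) ((mem_normalizer_iff.mp haP u).mp hu)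
        calc u * x = a⁻¹ * (a * u * a⁻¹ * (a * x * a⁻¹)) * a := by group
          _ = a⁻¹ * (a * x * a⁻¹ * (a * u * a⁻¹)) * a := by rw [this]
          _ = x * u := by group
  set φ : G →* G := (MulAut.conjNormal a : MulAut G).toMonoidHom with hφ
  have hi : Function.Injective φ := (MulAut.conjNormal a : MulAut G).injective
  have hPi : (P : Subgroup G).map φ = P := by
    refine Cfsg.Lib.Thompson.map_eq_of_le hi ?_
    rintro _ ⟨x, hx, rfl⟩
    obtain ⟨y, hy, he⟩ := (mem_normalizer_iff.mp haP (x : X)).mp (mem_map_of_mem _ hx)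
    rwa [show φ x = y from Subtype.ext he.symm]
  have hPne : (P : Subgroup G) ≠ ⊥ := P.ne_bot_of_dvd_card hpd
  have hupg : ∀ U : Subgroup G, U ≤ P → U ≠ ⊥ → U.Normal → U.map φ = U → Group.IsNilpotent G := by
    intro U hUP hU hUn hUi
    have hmem : ∀ x : X, (∀ y : G, y ∈ U → ∃ z ∈ U, (z : X) = x * y * x⁻¹) →
        x ∈ normalizer ((U.map G.subtype : Subgroup X) : Set X) := by
      intro x hx
      exact mem_normalizer_of_conj (by
        rintro _ ⟨y, hy, rfl⟩
        obtain ⟨z, hz, he⟩ := hx y hy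
        exact ⟨z, hz, he⟩)
    refine hop (U.map G.subtype) (Subgroup.map_mono hUP)
      (by rwa [ne_eq, map_eq_bot_iff_of_injective _ G.subtype_injective])
      (fun g hg => hmem g fun y hy => ⟨_, hUn.conj_mem y hy ⟨g, hg⟩, rfl⟩)
      (hmem a fun y hy => ⟨φ y, hUi.le (mem_map_of_mem _ hy), rfl⟩)
  have hJi : (Cfsg.thompsonSubgroupOf p (P : Subgroup G)).map φ =
      Cfsg.thompsonSubgroupOf p (P : Subgroup G) := by
    rw [Cfsg.Lib.Thompson.map_thompsonSubgroupOf hi.injOn, hPi]
  have hZi : ((P : Subgroup G) ⊓ centralizer ((P : Subgroup G) : Set G)).map φ =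
      (P : Subgroup G) ⊓ centralizer ((P : Subgroup G) : Set G) := by
    rw [Cfsg.Lib.Thompson.map_inf_centralizer hi.injOn, hPi]
  by_cases hJ : normalizer (Cfsg.thompsonSubgroupOf p (P : Subgroup G) : Set G) = ⊤
  · exact hupg _ (Cfsg.Lib.Thompson.thompsonSubgroupOf_le _)
      (Cfsg.Lib.Thompson.thompsonSubgroupOf_ne_bot P.2 hPne) (normalizer_eq_top_iff.mp hJ) hJi
  set Z := (P : Subgroup G) ⊓ centralizer ((P : Subgroup G) : Set G) with hZdef
  have hZne : Z ≠ ⊥ := Cfsg.Lib.Thompson.center_ne_bot P.2 hPne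
  by_cases hZ : centralizer (Z : Set G) = ⊤
  · exact hupg Z inf_le_left hZne (normalizer_eq_top_iff.mp (top_le_iff.mp
      (hZ.ge.trans (centralizer_le_normalizer (Z : Set G))))) hZi
  have hc : Cfsg.HasNormalPComplement p G := by
    refine Cfsg.Lib.Thompson.hasNormalPComplement_of_thompson hp2 _ G rfl P ⟨?_, ?_⟩
    · haveI := ihsub a h _ hJ (Cfsg.Lib.Thompson.map_normalizer_eq hi hJi)
      exact hasNormalPComplement_of_nilpotent p
    · haveI := ihsub a h _ hZ (Cfsg.Lib.Thompson.map_centralizer_eq hi hZi)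
      exact hasNormalPComplement_of_nilpotent p
  obtain ⟨N, hNn, hNc, k, hNk⟩ := Cfsg.Lib.Transfer.hasNormalPComplement_iff.mp hc
  haveI := hNn
  set K := N.map G.subtype
  have hKG : K ≤ G := map_subtype_le _
  have hKc : (Nat.card K).Coprime p := by
    rwa [← Nat.card_congr (N.equivMapOfInjective _ G.subtype_injective).toEquiv]
  have haK : a ∈ normalizer (K : Set X) := mem_normalizer_of_conj (by
    rintro _ ⟨y, hy, rfl⟩
    refine ⟨φ y, ?_, rfl⟩
    rw [SetLike.mem_coe, Cfsg.Lib.Transfer.mem_iff_coprime_orderOf hNc hNk, orderOf_injective φ hi]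
    exact (Cfsg.Lib.Transfer.mem_iff_coprime_orderOf hNc hNk y).mp hy)
  have haG : a ∉ G := fun ha => hpg fun x => ⟨1, Subtype.ext (by
    have := h ((x : X) * a⁻¹) (mul_mem x.2 (inv_mem ha))
    simpa using this)⟩
  have hao : orderOf a = p := orderOf_eq_prime h.pow_eq fun e => haG (e ▸ one_mem G)
  -- a fixed element in the centre of the Sylow subgroup
  have haZ : a ∈ normalizer ((Z.map G.subtype : Subgroup X) : Set X) :=
    mem_normalizer_of_conj (by
      rintro _ ⟨y, hy, rfl⟩
      exact ⟨φ y, hZi.le (mem_map_of_mem _ hy), rfl⟩)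
  obtain ⟨c, hcZ, hcc, hc1⟩ : ∃ c ∈ Z.map G.subtype, Commute c a ∧ c ≠ 1 := by
    set Z' := Z.map G.subtype
    let act : zpowers a →* MulAut Z' :=
      Z'.normalizerMonoidHom.comp (Subgroup.inclusion (zpowers_le.mpr haZ))
    letI : MulAction (zpowers a) Z' := MulAction.compHom Z' act
    have hpa : IsPGroup p (zpowers a) := IsPGroup.of_card (n := 1) (by rw [Nat.card_zpowers, hao, pow_one])
    have hdvd : p ∣ Nat.card Z' := by
      rcases ((P.2.to_le (inf_le_left : Z ≤ P)).map G.subtype).card_eq_or_dvd with e | e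
      · exact absurd (Subgroup.card_eq_one.1 e) fun e' =>
          hZne ((map_eq_bot_iff_of_injective _ G.subtype_injective).mp e')
      · exact e
    obtain ⟨c, hc, hne⟩ := hpa.exists_fixed_point_of_prime_dvd_card_of_fixed_point Z' hdvd
      (a := 1) (fun g => map_one (act g))
    refine ⟨c, c.2, ?_, fun e => hne (Subtype.ext e).symm⟩
    have he : a * (c : X) * a⁻¹ = c := congrArg Subtype.val (hc ⟨a, mem_zpowers a⟩)
    exact (mul_inv_eq_iff_eq_mul.mp he).symm
  have hcG : c ∈ G := map_subtype_le _ hcZ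
  have hcp : c ^ p = 1 := h.pow_eq_one_of_commute hcG hcc
  have hcC : c ∈ centralizer (K : Set X) := by
    set E := zpowers c ⊔ zpowers a
    haveI : IsMulCommutative E := by
      have hE : E = closure {c, a} := by rw [Set.insert_eq, Subgroup.closure_union, ← zpowers_eq_closure, ← zpowers_eq_closure]
      rw [hE]
      refine Subgroup.isMulCommutative_closure ?_
      rintro x (rfl | rfl) y (rfl | rfl)
      exacts [rfl, hcc.eq, hcc.eq.symm, rfl]
    have hmem : ∀ e ∈ E, ∃ i j : ℤ, e = c ^ i * a ^ j := by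
      intro e he
      have : (zpowers c : Set X) * (zpowers a : Set X) = (E : Set X) :=
        (Subgroup.coe_mul_of_right_le_normalizer_left _ _ ((zpowers_le.mpr (by
          refine mem_normalizer_of_conj ?_
          rintro _ ⟨i, rfl⟩
          exact ⟨i, by rw [← ((hcc.zpow_left i).eq), mul_inv_cancel_right]⟩)))).symm
      rw [← SetLike.mem_coe, ← this] at he
      obtain ⟨x, ⟨i, rfl⟩, y, ⟨j, rfl⟩, rfl⟩ := he
      exact ⟨i, j, rfl⟩
    have hexp : ∀ e ∈ E, e ^ p = 1 := fun e he => by
      obtain ⟨i, j, rfl⟩ := hmem e he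
      rw [((hcc.zpow_zpow i j)).mul_pow, ← zpow_natCast, ← zpow_mul, mul_comm i, zpow_mul,
        zpow_natCast, hcp, one_zpow, one_mul, ← zpow_natCast, ← zpow_mul, mul_comm j, zpow_mul,
        zpow_natCast, h.pow_eq, one_zpow]
    have hE : ¬ IsCyclic E := by
      intro hcyc
      obtain ⟨e, he⟩ := IsCyclic.exists_generator (α := E)
      have hle : Nat.card E ≤ p := by
        rw [← orderOf_eq_card_of_forall_mem_zpowers he]
        exact orderOf_le_of_pow_eq_one hp.out.pos (Subtype.ext (hexp e e.2))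
      have heq : zpowers a = E := Subgroup.eq_of_le_of_card_ge le_sup_right
        (by rwa [Nat.card_zpowers, hao])
      have heq' : zpowers c = zpowers a := Subgroup.eq_of_le_of_card_ge
        (heq ▸ le_sup_left) (by rw [Nat.card_zpowers, Nat.card_zpowers, hao, orderOf_eq_prime hcp hc1])
      exact haG (zpowers_le.mpr hcG (heq' ▸ mem_zpowers a))
    have hEK : E ≤ normalizer (K : Set X) := sup_le
      (zpowers_le.mpr (mem_normalizer_of_conj (by
        rintro _ ⟨y, hy, rfl⟩
        exact ⟨_, hNn.conj_mem y hy ⟨c, hcG⟩, rfl⟩)))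
      (zpowers_le.mpr haK)
    have hcopE : (Nat.card E).Coprime (Nat.card K) := by
      obtain ⟨k, hk⟩ := IsPGroup.iff_card.mp (fun e : E => ⟨1, Subtype.ext (by simpa using hexp e e.2)⟩ : IsPGroup p E)
      rw [hk]; exact (hKc.pow_right k).symm
    have hle : K ≤ centralizer ({c} : Set X) := by
      rw [← Cfsg.Lib.Coprime.centralizerJoin_eq hE hEK hcopE]
      refine iSup₂_le fun e ⟨he, he1⟩ => ?_
      obtain ⟨i, j, rfl⟩ := hmem e he
      rintro y ⟨hyK, hy⟩
      rw [SetLike.mem_coe] at hy
      replace hy := mem_centralizer_singleton_iff.mp hy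
      rw [mem_centralizer_singleton_iff]
      by_cases hj : a ^ j = 1
      · rw [hj, mul_one] at hy he1
        obtain ⟨m, hm⟩ : ∃ m : ℤ, (c ^ i) ^ m = c := by
          refine mem_zpowers_iff.mp ((Subgroup.eq_of_le_of_card_ge (zpowers_le.mpr
            (zpow_mem (mem_zpowers c) i)) ?_) ▸ mem_zpowers c)
          have hpow : (c ^ i) ^ p = 1 := by
            rw [← zpow_natCast, ← zpow_mul, mul_comm, zpow_mul, zpow_natCast, hcp, one_zpow]
          rw [Nat.card_zpowers, Nat.card_zpowers, orderOf_eq_prime hcp hc1, orderOf_eq_prime hpow he1]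
        have : Commute y ((c ^ i) ^ m) := Commute.zpow_right hy m
        rw [hm] at this; exact this
      · -- no non-identity fixed points
        obtain ⟨m, hm⟩ : ∃ m : ℤ, (a ^ j) ^ m = a := by
          refine mem_zpowers_iff.mp ((Subgroup.eq_of_le_of_card_ge (zpowers_le.mpr
            (zpow_mem (mem_zpowers a) j)) ?_) ▸ mem_zpowers a)
          have hpow : (a ^ j) ^ p = 1 := by
            rw [← zpow_natCast, ← zpow_mul, mul_comm, zpow_mul, zpow_natCast, h.pow_eq, one_zpow]
          rw [Nat.card_zpowers, Nat.card_zpowers, hao, orderOf_eq_prime hpow hj]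
        have h' : Commute y ((c ^ i) ^ m * a) := by
          have := Commute.zpow_right (show Commute y (c ^ i * a ^ j) from hy) m
          rwa [(hcc.zpow_zpow i j).mul_zpow, hm] at this
        have hy' : y ^ p = 1 :=
          (h.mul_left (zpow_mem (zpow_mem hcG i) m)).pow_eq_one_of_commute (hKG hyK) h'
        have : y = 1 := orderOf_eq_one_iff.mp (Nat.eq_one_of_dvd_coprimes hKc
          (Subgroup.orderOf_dvd_natCard K hyK) (orderOf_dvd_of_pow_eq_one hy'))
        rw [this]; simp
    exact mem_centralizer_iff.mpr fun y hy => (mem_centralizer_singleton_iff.mp (hle hy))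
  have hcW : G ≤ centralizer ((zpowers c : Subgroup X) : Set X) := by
    rw [Cfsg.Lib.Coprime.centralizer_zpowers]
    refine Cfsg.Lib.Coprime.le_of_forall_sylow fun q hq => ?_
    haveI := Fact.mk hq
    by_cases hqp : q = p
    · subst hqp
      refine ⟨P, ?_⟩
      rintro _ ⟨x, hx, rfl⟩
      obtain ⟨z, hz, rfl⟩ := hcZ
      exact mem_centralizer_singleton_iff.mpr (congrArg Subtype.val (mem_centralizer_iff.mp hz.2 x hx))
    · obtain ⟨Q⟩ : Nonempty (Sylow q G) := inferInstance
      refine ⟨Q, ?_⟩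
      rintro _ ⟨x, hx, rfl⟩
      have hxN : x ∈ N := by
        rw [Cfsg.Lib.Transfer.mem_iff_coprime_orderOf hNc hNk]
        obtain ⟨k, hk⟩ := IsPGroup.iff_orderOf.mp Q.2 ⟨x, hx⟩
        rw [Subgroup.orderOf_mk] at hk
        rw [hk]; exact ((Nat.coprime_primes hq hp.out).mpr hqp).pow_left k
      exact mem_centralizer_singleton_iff.mpr
        (mem_centralizer_iff.mp hcC _ (mem_map_of_mem G.subtype hxN))
  refine ihquot a h (zpowers c) (zpowers_le.mpr hcG) (by rwa [ne_eq, zpowers_eq_bot]) hcW ?_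
  refine mem_normalizer_of_conj ?_
  rintro _ ⟨i, rfl⟩
  exact ⟨i, by rw [← ((hcc.zpow_left i).eq), mul_inv_cancel_right]⟩

theorem isNilpotent_of_split {X : Type u} [Group X] [Finite X] {G : Subgroup X} [G.Normal] {a : X}
    (h : IsSplit p G a) : Group.IsNilpotent G := by
  by_cases hp2 : p = 2
  · subst hp2; exact isNilpotent_of_split_two h
  · exact isNilpotent_of_split_aux hp2 _ X G a rfl h

open SemidirectProduct in
/-- A splitting automorphism of prime order forces nilpotency. -/
theorem isNilpotent_of_splitting {G : Type u} [Group G] [Finite G] (α : MulAut G) (hα : α ^ p = 1)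
    (hsplit : ∀ x : G, ((List.range p).map (fun i : ℕ => (α ^ i) x)).prod = 1) :
    Group.IsNilpotent G := by
  set A := zpowers α
  haveI : Finite (G ⋊[A.subtype] A) := Finite.of_equiv _ SemidirectProduct.equivProd.symm
  set b : G ⋊[A.subtype] A := inr ⟨α, mem_zpowers α⟩
  have hb : ∀ n : ℕ, ∀ x : G, (inl x * b) ^ n =
      inl (((List.range n).map (fun i : ℕ => (α ^ i) x)).prod) * b ^ n := by
    intro n x
    induction n with
    | zero => simp
    | succ n ih =>
      rw [pow_succ, ih, pow_succ b, List.range_succ, List.map_append, List.prod_append, map_mul]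
      have hconj : b ^ n * inl x = inl ((α ^ n) x) * b ^ n := by
        rw [← map_pow, ← eq_mul_inv_iff_mul_eq]
        have e := inl_aut (φ := A.subtype) (⟨α, mem_zpowers α⟩ ^ n : A) x
        rw [map_inv, eq_mul_inv_iff_mul_eq] at e
        simpa [b, eq_mul_inv_iff_mul_eq, eq_comm] using e
      simp only [List.map_cons, List.map_nil, List.prod_cons, List.prod_nil, mul_one]
      calc inl ((List.map (fun i => (α ^ i) x) (List.range n)).prod) * b ^ n * (inl x * b)
          = inl ((List.map (fun i => (α ^ i) x) (List.range n)).prod) * (b ^ n * inl x) * b := by group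
        _ = _ := by rw [hconj]; group
  have hbp : b ^ p = 1 := by
    rw [← map_pow, show (⟨α, mem_zpowers α⟩ : A) ^ p = 1 from Subtype.ext hα, map_one]
  haveI : (inl : G →* G ⋊[A.subtype] A).range.Normal := by
    rw [range_inl_eq_ker_rightHom]; infer_instance
  haveI := isNilpotent_of_split (p := p) (G := (inl : G →* G ⋊[A.subtype] A).range) (a := b) (by
    rintro _ ⟨x, rfl⟩
    rw [hb, hsplit, hbp, map_one, one_mul])
  exact Group.nilpotent_of_mulEquiv
    (MonoidHom.ofInjective (f := (inl : G →* G ⋊[A.subtype] A)) inl_injective).symm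

end Cfsg.Lib.Splitting
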